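import Cfsg.Agent.H891.DG.Defs
import Cfsg.Agent.H487.Gen.SporRows
import Cfsg.Agent.H440.TwoGen.Spor
import Cfsg.Agent.S2060
import Cfsg.Agent.S2063
import Cfsg.Agent.S2064
import Cfsg.Agent.S2065
import Cfsg.Agent.S2068
import Cfsg.Agent.S2069
import Cfsg.Agent.S2070
import Cfsg.Agent.S2071
import Cfsg.Agent.S2076
import Cfsg.Agent.S2077
import Cfsg.Agent.S2080
import Cfsg.Agent.S2083
import Cfsg.Agent.S2084
import Cfsg.Agent.S2085

/-!
# TEAM GEN, S4180, C20: `Cos2` for sporadic groups (helper973)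

* `cos2_of_inner` : `T ≃* M`, all the automorphisms of `M` are inner and `M` is 2-generated;
* `cos2_of_outer` : `T ≃* M`, `Inn M` and the coset of `α` are all the automorphisms, `M = ⟨t, α t⟩`;
* the sporadic groups with `Out = 1`, and `M12`, `M22`, `HS`.
-/

set_option autoImplicit false

namespace Cfsg.Agent.H973.DG.Spor

open Cfsg Cfsg.Agent.H440.TwoGen Cfsg.Agent.H891.Gen Cfsg.Agent.H891.DG Subgroup

universe u v

/-- `Cos2` is invariant under isomorphisms. -/
theorem Cos2.of_equiv {T : Type u} {M : Type v} [Group T] [Group M] (e : T ≃* M) (h : Cos2 M) : Cos2 T := by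
  intro x y
  obtain ⟨s, ⟨s', hs⟩, t, ⟨t', ht⟩, hst⟩ := h (MulAut.congr e x) (MulAut.congr e y)
  set f : MulAut M ≃* MulAut T := (MulAut.congr e).symm with hf
  have hconj : ∀ m : M, f (MulAut.conj m) = MulAut.conj (e.symm m) := by
    intro m
    rw [hf, MulEquiv.symm_apply_eq]
    refine MulEquiv.ext fun z => ?_
    change _ = e (MulAut.conj (e.symm m) (e.symm z))
    rw [MulAut.conj_apply, MulAut.conj_apply, map_mul, map_mul, map_inv, e.apply_symm_apply, e.apply_symm_apply]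
  have hx : f (MulAut.congr e x) = x := by rw [hf, MulEquiv.symm_apply_apply]
  have hy : f (MulAut.congr e y) = y := by rw [hf, MulEquiv.symm_apply_apply]
  refine ⟨f s, ⟨e.symm s', by rw [← hs, hconj]⟩, f t, ⟨e.symm t', by rw [← ht, hconj]⟩, ?_⟩
  have h1 := Subgroup.map_mono (f := (f : MulAut M →* MulAut T)) hst
  rw [MonoidHom.map_closure, Set.image_pair] at h1
  have h2 : (f : MulAut M →* MulAut T) (MulAut.congr e x * s) = x * f s := by
    change f (MulAut.congr e x * s) = _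
    rw [map_mul, hx]
  have h3 : (f : MulAut M →* MulAut T) (MulAut.congr e y * t) = y * f t := by
    change f (MulAut.congr e y * t) = _
    rw [map_mul, hy]
  rw [h2, h3] at h1
  refine le_trans ?_ h1
  rintro _ ⟨a, rfl⟩
  exact ⟨MulAut.conj (e a), ⟨e a, rfl⟩, by
    change f (MulAut.conj (e a)) = _
    rw [hconj, e.symm_apply_apply]⟩

/-- If every automorphism is inner and the group is 2-generated then `Cos2`. -/
theorem cos2_inner {M : Type v} [Group M] (hin : ∀ φ : MulAut M, φ ∈ (MulAut.conj : M →* MulAut M).range)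
    (hM : TwoGen M) : Cos2 M := by
  intro x y
  obtain ⟨a, b, hab⟩ := hM
  refine ⟨x⁻¹ * MulAut.conj a, hin _, y⁻¹ * MulAut.conj b, hin _, ?_⟩
  rw [mul_inv_cancel_left, mul_inv_cancel_left, MonoidHom.range_eq_map, ← hab, MonoidHom.map_closure,
    Set.image_pair]

/-- If `Inn M` and the coset of `α` are all the automorphisms and `M = ⟨t, α t⟩` then `Cos2`. -/
theorem cos2_outer {M : Type v} [Group M] (α : MulAut M)
    (hα : ∀ φ : MulAut M, φ ∈ (MulAut.conj : M →* MulAut M).range ∨ α * φ ∈ (MulAut.conj : M →* MulAut M).range)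
    (t : M) (ht : closure ({t, α t} : Set M) = ⊤) : Cos2 M := by
  -- a subgroup which contains `α` and `conj t` contains `Inn M`
  have key : ∀ K : Subgroup (MulAut M), α ∈ K → MulAut.conj t ∈ K → (MulAut.conj : M →* MulAut M).range ≤ K := by
    intro K h1 h2
    rw [MonoidHom.range_eq_map, ← ht, MonoidHom.map_closure, Set.image_pair, closure_le]
    rintro z (rfl | hz)
    · exact h2
    · rw [Set.mem_singleton_iff] at hz
      subst hz
      have h3 : (MulAut.conj (α t) : MulAut M) = α * MulAut.conj t * α⁻¹ := by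
        refine MulEquiv.ext fun z => ?_
        rw [MulAut.mul_apply, MulAut.mul_apply, MulAut.conj_apply, MulAut.conj_apply, map_mul, map_mul, map_inv,
          MulAut.apply_inv_self]
      change MulAut.conj (α t) ∈ K
      rw [h3]
      exact mul_mem (mul_mem h1 h2) (inv_mem h1)
  -- the coset of an outer automorphism contains `α⁻¹ * i` for all inner `i`
  have aux : ∀ x : MulAut M, x ∉ (MulAut.conj : M →* MulAut M).range →
      ∀ i ∈ (MulAut.conj : M →* MulAut M).range, x⁻¹ * (α⁻¹ * i) ∈ (MulAut.conj : M →* MulAut M).range := by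
    intro x hx i hi
    have h1 := (hα x).resolve_left hx
    have h2 : x⁻¹ * (α⁻¹ * i) = (α * x)⁻¹ * i := by group
    rw [h2]
    exact mul_mem (inv_mem h1) hi
  have hmix : ∀ x y : MulAut M, x ∈ (MulAut.conj : M →* MulAut M).range → y ∉ (MulAut.conj : M →* MulAut M).range →
      Lift (MulAut.conj : M →* MulAut M).range x y := by
    intro x y hx hy
    refine ⟨x⁻¹ * MulAut.conj t, mul_mem (inv_mem hx) ⟨t, rfl⟩, y⁻¹ * (α⁻¹ * 1), aux y hy 1 (one_mem _), ?_⟩
    rw [mul_inv_cancel_left, mul_inv_cancel_left, mul_one]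
    refine key _ ?_ (subset_closure (by simp))
    rw [← inv_mem_iff]
    exact subset_closure (by simp)
  intro x y
  by_cases hx : x ∈ (MulAut.conj : M →* MulAut M).range
  · by_cases hy : y ∈ (MulAut.conj : M →* MulAut M).range
    · refine ⟨x⁻¹ * MulAut.conj t, mul_mem (inv_mem hx) ⟨t, rfl⟩, y⁻¹ * MulAut.conj (α t),
        mul_mem (inv_mem hy) ⟨α t, rfl⟩, ?_⟩
      rw [mul_inv_cancel_left, mul_inv_cancel_left, MonoidHom.range_eq_map, ← ht, MonoidHom.map_closure,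
        Set.image_pair]
    · exact hmix x y hx hy
  · by_cases hy : y ∈ (MulAut.conj : M →* MulAut M).range
    · exact (hmix y x hy hx).symm
    · refine ⟨x⁻¹ * (α⁻¹ * 1), aux x hx 1 (one_mem _), y⁻¹ * (α⁻¹ * MulAut.conj t), aux y hy _ ⟨t, rfl⟩, ?_⟩
      rw [mul_inv_cancel_left, mul_inv_cancel_left, mul_one]
      have h1 : α⁻¹ ∈ closure ({α⁻¹, α⁻¹ * MulAut.conj t} : Set (MulAut M)) := subset_closure (by simp)
      have h2 : α⁻¹ * MulAut.conj t ∈ closure ({α⁻¹, α⁻¹ * MulAut.conj t} : Set (MulAut M)) :=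
        subset_closure (by simp)
      refine key _ (inv_mem_iff.1 h1) ?_
      have h3 := mul_mem (inv_mem h1) h2
      rwa [inv_inv, mul_inv_cancel_left] at h3

theorem cos2_of_inner {T : Type u} {M : Type v} [Group T] [Group M] (e : T ≃* M)
    (hin : ∀ φ : MulAut M, φ ∈ (MulAut.conj : M →* MulAut M).range) (hM : TwoGen T) : Cos2 T :=
  Cos2.of_equiv e (cos2_inner hin (hM.of_equiv e))

theorem cos2_of_outer {T : Type u} {M : Type v} [Group T] [Group M] (e : T ≃* M) (α : MulAut M)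
    (hα : ∀ φ : MulAut M, φ ∈ (MulAut.conj : M →* MulAut M).range ∨ α * φ ∈ (MulAut.conj : M →* MulAut M).range)
    (t : M) (ht : closure ({t, α t} : Set M) = ⊤) : Cos2 T :=
  Cos2.of_equiv e (cos2_outer α hα t ht)

/-- The version of `H487.Gen.twoGen_of_conj` for `Cos2`: `M = K` is a subgroup of `P` and all its automorphisms are
induced by a subgroup `A` with `A = K ∪ z⁻¹ K`. -/
theorem cos2_of_conj {T : Type u} [Group T] {P : Type v} [Group P] (K A : Subgroup P)
    (e : T ≃* K) (hφ : ∀ φ : MulAut K, ∃ p ∈ A, ∀ q : K, ((φ q : K) : P) = p * q * p⁻¹) (z : P)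
    (hz : ∀ q, q ∈ K ↔ z * q * z⁻¹ ∈ K) (hA : ∀ p ∈ A, p ∈ K ∨ z * p ∈ K) (t : P) (ht : t ∈ K)
    (hgen : closure ({t, z * t * z⁻¹} : Set P) = K) : Cos2 T := by
  refine cos2_of_outer e (Cfsg.Agent.H487.Gen.conjOn K z hz) ?_ ⟨t, ht⟩ ?_
  · intro φ
    obtain ⟨p, hp, h⟩ := hφ φ
    rcases hA p hp with h1 | h1
    · refine Or.inl ⟨⟨p, h1⟩, MulEquiv.ext fun q => Subtype.ext ?_⟩
      rw [h]
      rfl
    · refine Or.inr ⟨⟨z * p, h1⟩, MulEquiv.ext fun q => Subtype.ext ?_⟩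
      change z * p * (q : P) * (z * p)⁻¹ = z * ((φ q : K) : P) * z⁻¹
      rw [h]
      group
  · apply Subgroup.map_injective K.subtype_injective
    rw [MonoidHom.map_closure, Set.image_pair, ← MonoidHom.range_eq_map, Subgroup.range_subtype]
    exact hgen

/-! ### `Out = 1` -/

theorem inner_of_card {K : Type v} [Group K] (h : Nat.card (Cfsg.Out K) = 1) (φ : MulAut K) :
    φ ∈ (MulAut.conj : K →* MulAut K).range := by
  have h1 : (MulAut.conj : K →* MulAut K).range.index = 1 := h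
  rw [Subgroup.index_eq_one] at h1
  rw [h1]
  exact mem_top _

theorem cos2_of_card {T : Type u} {M : Type v} [Group T] [Group M] (e : Nonempty (T ≃* M))
    (h : Nat.card (Cfsg.Out M) = 1) (hM : TwoGen T) : Cos2 T := by
  obtain ⟨e⟩ := e
  exact cos2_of_inner e (inner_of_card h) hM

variable {T : Type u} [Group T]

theorem m11 (h : Spor.IsoM11 T) : Cos2 T := cos2_of_card h Cfsg.Agent.S2060.result (Cfsg.Agent.H994.TwoGen.M11.twoGen h)

theorem m23 (h : Spor.IsoM23 T) : Cos2 T := cos2_of_card h Cfsg.Agent.S2063.result (Cfsg.Agent.H994.TwoGen.M23.twoGen h)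

theorem m24 (h : Spor.IsoM24 T) : Cos2 T := cos2_of_card h Cfsg.Agent.S2064.result (Cfsg.Agent.H994.TwoGen.M24.twoGen h)

theorem j1 (h : Spor.IsoJ1 T) : Cos2 T := cos2_of_card h Cfsg.Agent.S2065.result (Cfsg.Agent.H994.TwoGen.J1.twoGen h)

theorem j4 (h : Spor.IsoJ4 T) : Cos2 T := cos2_of_card h Cfsg.Agent.S2068.result (JFour.twoGen_j4 h)

theorem co1 (h : Spor.IsoCo1 T) : Cos2 T := cos2_of_card h Cfsg.Agent.S2069.result (Cfsg.Agent.H136.Gen2.Co1.twoGen h)

theorem co2 (h : Spor.IsoCo2 T) : Cos2 T := cos2_of_card h Cfsg.Agent.S2070.result (Cfsg.Agent.H136.Gen2.Co2.twoGen h)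

theorem co3 (h : Spor.IsoCo3 T) : Cos2 T := cos2_of_card h Cfsg.Agent.S2071.result (Cfsg.Agent.H136.Gen2.Co3.twoGen h)

theorem ru (h : Spor.IsoRu T) : Cos2 T := cos2_of_card h Cfsg.Agent.S2077.result (Rud.twoGen_ru h)

theorem ly (h : Spor.IsoLy T) : Cos2 T := cos2_of_card h Cfsg.Agent.S2076.result (Lyons.twoGen_ly h)

theorem fi23 (h : Spor.IsoFi23 T) : Cos2 T := cos2_of_card h Cfsg.Agent.S2080.result (CoxInst.twoGen_fi23 h)

theorem th (h : Spor.IsoTh T) : Cos2 T := cos2_of_card h Cfsg.Agent.S2083.result (Cfsg.Agent.H136.Gen2.Th.twoGen h)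

theorem b (h : Spor.IsoB T) : Cos2 T := cos2_of_card h Cfsg.Agent.S2084.result (CoxInst.twoGen_b h)

theorem m (h : Spor.IsoM T) : Cos2 T := cos2_of_card h Cfsg.Agent.S2085.result (MonsterM.twoGen_m h)

/-! ### `M12`, `M22`, `HS` -/

theorem m12 (h : Spor.IsoM12 T) : Cos2 T := by
  obtain ⟨e⟩ := h
  refine cos2_of_outer e Cfsg.Agent.OddHalf.Table.OutMTwelve.al Cfsg.Agent.OddHalf.Table.OutMTwelve.mem_or_mem
    ⟨Cfsg.Agent.H994.TwoGen.M12.X, Cfsg.Agent.H994.TwoGen.M12.X_mem⟩ ?_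
  apply Subgroup.map_injective Spor.M12.subtype_injective
  rw [MonoidHom.map_closure, Set.image_pair]
  change closure ({Cfsg.Agent.H994.TwoGen.M12.X, Cfsg.Agent.CoThreeStd.OutAut.pPi *
    Cfsg.Agent.H994.TwoGen.M12.X * Cfsg.Agent.CoThreeStd.OutAut.pPi⁻¹} : Set (Equiv.Perm GolayPt)) = _
  rw [Cfsg.Agent.H487.Gen.SporRows.gen12, ← MonoidHom.range_eq_map, Subgroup.range_subtype]

section m22

open Cfsg.Agent.J4Type.Aut22 (D22 mem_D22_iff exists_conj)
open Cfsg.Agent.SporadicA.MathieuRecog (mem_M22_iff)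
open Cfsg.Agent.H994.TwoGen.M22 (X X_mem)
open Cfsg.Agent.H487.Gen.SporRows (z22 z22_mem z22_mem24 z22_none z22_zero conj22 gen22)

theorem m22 (h : Spor.IsoM22 T) : Cos2 T := by
  obtain ⟨e⟩ := h
  refine cos2_of_conj Spor.M22 D22 e exists_conj z22 (fun q => ⟨fun h => conj22 h z22_mem, fun h => ?_⟩) ?_ X
    X_mem gen22
  · have h1 := conj22 h (inv_mem z22_mem)
    have h2 : z22⁻¹ * (z22 * q * z22⁻¹) * z22⁻¹⁻¹ = q := by group
    rwa [h2] at h1
  · intro p hp
    obtain ⟨h1, h2 | h2⟩ := (mem_D22_iff _).1 hp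
    · exact Or.inl ((mem_M22_iff _).2 ⟨h1, h2⟩)
    · refine Or.inr ((mem_M22_iff _).2 ⟨mul_mem z22_mem24 h1, ?_, ?_⟩)
      · rw [Equiv.Perm.mul_apply, h2.1, z22_zero]
      · rw [Equiv.Perm.mul_apply, h2.2, z22_none]

end m22

section hs

open Cfsg.Agent.SporadicA.PermTab Cfsg.Agent.HN.HS100 Cfsg.Agent.HN.AutBound Cfsg.Agent.HN.AutHS Equiv
open Cfsg.Agent.HSType.Letters Cfsg.Agent.H994.TwoGen.Words
open Cfsg.Agent.H487.Gen.SporRows (genHS)

theorem hs (h : Spor.IsoHS T) : Cos2 T := by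
  obtain ⟨e⟩ := h
  obtain ⟨⟨f⟩, -⟩ := nonempty_Q
  have hconj : ∀ q ∈ Q, ∀ z ∈ autG 100 adjA, z * q * z⁻¹ ∈ Q := by
    intro q hq z hz
    obtain ⟨h1, h2⟩ := mem_Q_iff.1 hq
    refine mem_Q_iff.2 ⟨mul_mem (mul_mem hz h1) (inv_mem hz), ?_⟩
    rw [map_mul, map_mul, h2, map_inv, mul_one, mul_inv_cancel]
  refine cos2_of_conj Q (autG 100 adjA) (e.trans f.symm) exists_perm Z
    (fun q => ⟨fun h => hconj q h Z Z_mem, fun h => ?_⟩) ?_ pr pr_mem genHS
  · have h1 := hconj _ h Z⁻¹ (inv_mem Z_mem)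
    have h2 : Z⁻¹ * (Z * q * Z⁻¹) * Z⁻¹⁻¹ = q := by group
    rwa [h2] at h1
  · intro p hp
    rcases Int.units_eq_one_or (Perm.sign p) with h1 | h1
    · exact Or.inl (mem_Q_iff.2 ⟨hp, h1⟩)
    · exact Or.inr (mem_Q_iff.2 ⟨mul_mem Z_mem hp, by rw [map_mul, h1, sign_Z]; decide⟩)

end hs

end Cfsg.Agent.H973.DG.Spor
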